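import Cfsg.Agent.Lib.Golay.PSL34

/-!
`PSL(3,4)` has no element of order 15: powers of a `3 × 3` matrix are computed modulo a monic
cubic (or, for a derogatory matrix, quadratic) relation.

Owner: helper99.
-/

set_option autoImplicit false

namespace Cfsg.Agent.Lib.PSL34Orders

open Cfsg.Agent.Lib.Golay.PSL34

/-- `X ^ k` modulo `X ^ 2 - a X - b`. -/
def co2 (a b : F4) : ℕ → F4 × F4
  | 0 => (0, 1)
  | k + 1 => ((co2 a b k).1 * a + (co2 a b k).2, (co2 a b k).1 * b)

/-- `X ^ k` modulo `X ^ 3 - a X ^ 2 - b X - c`. -/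
def co3 (a b c : F4) : ℕ → F4 × F4 × F4
  | 0 => (0, 0, 1)
  | k + 1 => ((co3 a b c k).1 * a + (co3 a b c k).2.1, (co3 a b c k).1 * b + (co3 a b c k).2.2,
      (co3 a b c k).1 * c)

theorem key2 : ∀ a b : F4, (co2 a b 15).1 = 0 → (co2 a b 5).1 = 0 ∨ (co2 a b 3).1 = 0 := by
  decide +kernel

theorem key3 : ∀ a b : F4, ((co3 a b 1 15).1 = 0 ∧ (co3 a b 1 15).2.1 = 0) →
    ((co3 a b 1 5).1 = 0 ∧ (co3 a b 1 5).2.1 = 0) ∨ ((co3 a b 1 3).1 = 0 ∧ (co3 a b 1 3).2.1 = 0) := by
  decide +kernel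

local notation "M3" => Matrix (Fin 3) (Fin 3) F4

theorem pow_co2 (m : M3) {a b : F4} (h : m * m = a • m + b • 1) (k : ℕ) :
    m ^ k = (co2 a b k).1 • m + (co2 a b k).2 • (1 : M3) := by
  induction k with
  | zero => simp [co2]
  | succ k ih =>
    rw [pow_succ, ih, add_mul, smul_mul_assoc, smul_mul_assoc, one_mul, h, co2]
    simp only [smul_add, smul_smul, add_smul]
    abel

theorem pow_co3 (m : M3) {a b c : F4} (h : m * m * m = a • (m * m) + b • m + c • 1) (k : ℕ) :
    m ^ k = (co3 a b c k).1 • (m * m) + (co3 a b c k).2.1 • m + (co3 a b c k).2.2 • (1 : M3) := by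
  induction k with
  | zero => simp [co3]
  | succ k ih =>
    rw [pow_succ, ih, add_mul, add_mul, smul_mul_assoc, smul_mul_assoc, smul_mul_assoc, one_mul, h,
      co3]
    simp only [smul_add, smul_smul, add_smul]
    abel

theorem exists_cubic (m : M3) (hm : m.det = 1) :
    ∃ a b : F4, m * m * m = a • (m * m) + b • m + (1 : F4) • 1 := by
  have h := Matrix.aeval_self_charpoly m
  have hd : m.charpoly.natDegree = 3 := by
    rw [Matrix.charpoly_natDegree_eq_dim, Fintype.card_fin]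
  rw [Polynomial.aeval_eq_sum_range, hd] at h
  simp [Finset.sum_range_succ] at h
  have h3 : m.charpoly.coeff 3 = 1 := by
    have := (Matrix.charpoly_monic m).coeff_natDegree
    rwa [hd] at this
  rw [h3, one_smul] at h
  have h0 : m.charpoly.coeff 0 = -1 := by
    have h' := Matrix.det_eq_sign_charpoly_coeff m
    rw [Fintype.card_fin, hm] at h'
    linear_combination h'
  refine ⟨-m.charpoly.coeff 2, -m.charpoly.coeff 1, ?_⟩
  rw [h0] at h
  have e : m ^ 3 = m * m * m ∧ m ^ 2 = m * m := ⟨by simp [pow_succ], by simp [pow_succ]⟩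
  rw [e.1, e.2] at h
  simp only [neg_smul, one_smul] at h ⊢
  linear_combination (norm := abel) h

/-- A matrix is scalar. -/
def IsScal (m : M3) : Prop := ∃ r : F4, m = r • (1 : M3)

theorem scal_pow (m : M3) (hm : m.det = 1) (h : IsScal (m ^ 15)) : IsScal (m ^ 5) ∨ IsScal (m ^ 3) := by
  by_cases hs : IsScal m
  · obtain ⟨r, hr⟩ := hs
    exact Or.inr ⟨r ^ 3, by rw [hr, smul_pow, one_pow]⟩
  have indep2 : ∀ β γ : F4, β • m + γ • (1 : M3) = 0 → β = 0 := by
    intro β γ he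
    by_contra hb
    refine hs ⟨β⁻¹ * -γ, ?_⟩
    rw [← smul_smul, neg_smul, ← eq_neg_of_add_eq_zero_left he, smul_smul, inv_mul_cancel₀ hb, one_smul]
  obtain ⟨r, hr⟩ := h
  by_cases hA : ∃ a b : F4, m * m = a • m + b • (1 : M3)
  · obtain ⟨a, b, hab⟩ := hA
    have h15 : (co2 a b 15).1 = 0 := by
      refine indep2 _ ((co2 a b 15).2 - r) ?_
      rw [sub_smul, ← hr, pow_co2 m hab 15]
      abel
    rcases key2 a b h15 with h5 | h3
    · exact Or.inl ⟨_, by rw [pow_co2 m hab 5, h5, zero_smul, zero_add]⟩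
    · exact Or.inr ⟨_, by rw [pow_co2 m hab 3, h3, zero_smul, zero_add]⟩
  · have indep3 : ∀ α β γ : F4, α • (m * m) + β • m + γ • (1 : M3) = 0 → α = 0 ∧ β = 0 := by
      intro α β γ he
      by_cases ha : α = 0
      · subst ha
        rw [zero_smul, zero_add] at he
        exact ⟨rfl, indep2 β γ he⟩
      · refine absurd ⟨α⁻¹ * -β, α⁻¹ * -γ, ?_⟩ hA
        rw [← smul_smul, ← smul_smul, neg_smul, neg_smul, ← smul_add, ← neg_add,
          ← eq_neg_of_add_eq_zero_left (by rwa [← add_assoc]), smul_smul, inv_mul_cancel₀ ha, one_smul]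
    obtain ⟨a, b, habc⟩ := exists_cubic m hm
    have h15 : (co3 a b 1 15).1 = 0 ∧ (co3 a b 1 15).2.1 = 0 := by
      refine indep3 _ _ ((co3 a b 1 15).2.2 - r) ?_
      rw [sub_smul, ← hr, pow_co3 m habc 15]
      abel
    rcases key3 a b h15 with ⟨h5, h5'⟩ | ⟨h3, h3'⟩
    · exact Or.inl ⟨_, by rw [pow_co3 m habc 5, h5, h5', zero_smul, zero_smul, zero_add, zero_add]⟩
    · exact Or.inr ⟨_, by rw [pow_co3 m habc 3, h3, h3', zero_smul, zero_smul, zero_add, zero_add]⟩

theorem mem_center_iff_scal (g : SL34) : g ∈ Subgroup.center SL34 ↔ IsScal (g : M3) := by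
  rw [Matrix.SpecialLinearGroup.mem_center_iff]
  constructor
  · rintro ⟨r, -, hr⟩
    exact ⟨r, by rw [← hr, Matrix.smul_one_eq_diagonal]; rfl⟩
  · rintro ⟨r, hr⟩
    have hd : r ^ Fintype.card (Fin 3) = 1 := by
      have h1 := g.2
      rw [hr, Matrix.det_smul, Matrix.det_one, mul_one] at h1
      exact h1
    exact ⟨r, hd, by rw [hr, Matrix.smul_one_eq_diagonal]; rfl⟩

theorem orderOf_ne_fifteen (x : Matrix.ProjectiveSpecialLinearGroup (Fin 3) F4) :
    orderOf x ≠ 15 := by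
  intro h
  obtain ⟨g, rfl⟩ := QuotientGroup.mk_surjective x
  have key : ∀ k, (QuotientGroup.mk g : Matrix.ProjectiveSpecialLinearGroup (Fin 3) F4) ^ k = 1 ↔
      IsScal ((g : M3) ^ k) := fun k => by
    rw [← QuotientGroup.mk_pow, QuotientGroup.eq_one_iff, mem_center_iff_scal]
    simp
  have h15 := (key 15).1 (by rw [← h, pow_orderOf_eq_one])
  rcases scal_pow _ g.2 h15 with h5 | h3
  · have := orderOf_dvd_of_pow_eq_one ((key 5).2 h5); rw [h] at this; norm_num at this
  · have := orderOf_dvd_of_pow_eq_one ((key 3).2 h3); rw [h] at this; norm_num at this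

theorem exists_fieldEquiv (F : Type*) [Field F] [Fintype F] (hF : Fintype.card F = 4) :
    Nonempty (F ≃+* F4) := ⟨FiniteField.ringEquivOfCardEq (hF.trans F4.card_eq.symm)⟩

end Cfsg.Agent.Lib.PSL34Orders
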