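import Cfsg.Agent.Lib.PSL34Orders.Basic

/-!
The involutions of `PSL(3,4)` form one class: they lift to transvections.

Owner: helper99.
-/

set_option autoImplicit false

namespace Cfsg.Agent.Lib.PSL34Orders

open Cfsg.Agent.Lib.Golay.PSL34
open scoped Matrix

local notation "M3" => Matrix (Fin 3) (Fin 3) F4

theorem two_eq_zero_F4 : (2 : F4) = 0 := by
  rw [← one_add_one_eq_two]; decide

/-- The standard transvection. -/
def tv : SL34 := Matrix.SpecialLinearGroup.transvection (i := (0 : Fin 3)) (j := 2) (by decide) 1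

theorem coe_tv : (tv : M3) = Matrix.transvection 0 2 1 := rfl

theorem exists_conj_tv (g : SL34) (hg : g * g = 1) (hne : g ≠ 1) : ∃ P : SL34, g * P = P * tv := by
  set N : M3 := (g : M3) - 1 with hN
  have hNN : N * N = 0 := by
    have h1 : (g : M3) * g = 1 := by
      rw [← Matrix.SpecialLinearGroup.coe_mul, hg, Matrix.SpecialLinearGroup.coe_one]
    rw [hN, sub_mul, mul_sub, mul_sub, h1, one_mul, mul_one]
    have e : (g : M3) + g = 0 := by rw [← two_smul F4 (g : M3), two_eq_zero_F4, zero_smul]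
    calc (1 : M3) - g - (g - 1 * 1) = (1 + 1) - ((g : M3) + g) := by rw [one_mul]; abel
      _ = 0 := by rw [e, sub_zero, ← two_smul F4 (1 : M3), two_eq_zero_F4, zero_smul]
  obtain ⟨v, hv⟩ : ∃ v : Fin 3 → F4, N *ᵥ v ≠ 0 := by
    by_contra hcon
    push Not at hcon
    refine hne (Subtype.ext ?_)
    have : N = 0 := Matrix.ext_of_mulVec_single (fun j => by rw [hcon, Matrix.zero_mulVec])
    rw [hN, sub_eq_zero] at this
    simpa using this
  set w := N *ᵥ v with hw
  have hNw : N *ᵥ w = 0 := by rw [hw, Matrix.mulVec_mulVec, hNN, Matrix.zero_mulVec]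
  obtain ⟨z, hzN, hz⟩ : ∃ z : Fin 3 → F4, N *ᵥ z = 0 ∧ ∀ a : F4, z ≠ a • w := by
    by_contra hcon
    push Not at hcon
    have hk : LinearMap.ker (Matrix.toLin' N) ≤ F4 ∙ w := by
      intro z hz
      rw [LinearMap.mem_ker, Matrix.toLin'_apply] at hz
      obtain ⟨a, ha⟩ := hcon z hz
      exact Submodule.mem_span_singleton.2 ⟨a, ha.symm⟩
    have hrk : LinearMap.range (Matrix.toLin' N) ≤ LinearMap.ker (Matrix.toLin' N) := by
      rintro _ ⟨x, rfl⟩
      rw [LinearMap.mem_ker, Matrix.toLin'_apply, Matrix.toLin'_apply, Matrix.mulVec_mulVec, hNN,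
        Matrix.zero_mulVec]
    have h1 := Submodule.finrank_mono (le_trans hrk hk)
    have h2 := Submodule.finrank_mono hk
    have h3 := LinearMap.finrank_range_add_finrank_ker (Matrix.toLin' N)
    have h4 : Module.finrank F4 ↥(F4 ∙ w) ≤ 1 := by
      rw [finrank_span_singleton hv]
    rw [Module.finrank_pi, Fintype.card_fin] at h3
    omega
  let M : M3 := Matrix.of fun i j => (![w, z, v] : Fin 3 → Fin 3 → F4) j i
  have hMv : ∀ c : Fin 3 → F4, M *ᵥ c = c 0 • w + c 1 • z + c 2 • v := fun c => by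
    funext i; simp [M, Matrix.mulVec, dotProduct, Fin.sum_univ_three, mul_comm]
  have hdet : M.det ≠ 0 := by
    intro h0
    obtain ⟨c, hc, hMc⟩ := Matrix.exists_mulVec_eq_zero_iff.2 h0
    rw [hMv] at hMc
    have hN0 := congrArg (fun x => N *ᵥ x) hMc
    simp only [Matrix.mulVec_add, Matrix.mulVec_smul, hNw, hzN, smul_zero, zero_add,
      Matrix.mulVec_zero, ← hw] at hN0
    have c2 : c 2 = 0 := (smul_eq_zero.1 hN0).resolve_right hv
    rw [c2, zero_smul, add_zero] at hMc
    have c1 : c 1 = 0 := by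
      by_contra h1
      refine hz ((c 1)⁻¹ * -c 0) ?_
      rw [← smul_smul, neg_smul, ← eq_neg_of_add_eq_zero_right hMc, smul_smul, inv_mul_cancel₀ h1,
        one_smul]
    rw [c1, zero_smul, add_zero] at hMc
    have c0 : c 0 = 0 := (smul_eq_zero.1 hMc).resolve_right hv
    exact hc (funext fun i => by fin_cases i <;> assumption)
  let D : M3 := Matrix.diagonal ![1, M.det⁻¹, 1]
  let P : SL34 := ⟨M * D, by
    rw [Matrix.det_mul, Matrix.det_diagonal, Fin.prod_univ_three]
    simp [hdet]⟩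
  refine ⟨P, Subtype.ext ?_⟩
  rw [Matrix.SpecialLinearGroup.coe_mul, Matrix.SpecialLinearGroup.coe_mul, coe_tv]
  have hg' : (g : M3) = 1 + N := by rw [hN]; abel
  show (g : M3) * (M * D) = M * D * Matrix.transvection 0 2 1
  have hcomm : D * Matrix.transvection 0 2 1 = Matrix.transvection 0 2 1 * D := by
    ext i j
    fin_cases i <;> fin_cases j <;> simp [D, Matrix.transvection, Matrix.mul_apply, Fin.sum_univ_three]
  rw [mul_assoc M, hcomm, ← mul_assoc M, ← mul_assoc]
  congr 1
  refine Matrix.ext_of_mulVec_single fun j => ?_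
  rw [← Matrix.mulVec_mulVec, ← Matrix.mulVec_mulVec, hg', Matrix.add_mulVec, Matrix.one_mulVec,
    hMv, Matrix.mulVec_add, Matrix.mulVec_add, Matrix.mulVec_smul, Matrix.mulVec_smul,
    Matrix.mulVec_smul, hNw, hzN, ← hw, hMv]
  fin_cases j <;>
    simp [Matrix.transvection, Matrix.add_mulVec, Matrix.single_mulVec, Matrix.mulVec, dotProduct,
      Fin.sum_univ_three] <;> abel

theorem isConj_of_orderOf_two (x y : Matrix.ProjectiveSpecialLinearGroup (Fin 3) F4)
    (hx : orderOf x = 2) (hy : orderOf y = 2) : IsConj x y := by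
  suffices h : ∀ x : Matrix.ProjectiveSpecialLinearGroup (Fin 3) F4, orderOf x = 2 →
      IsConj (QuotientGroup.mk tv : Matrix.ProjectiveSpecialLinearGroup (Fin 3) F4) x from
    (h x hx).symm.trans (h y hy)
  intro x hx
  obtain ⟨g, rfl⟩ := QuotientGroup.mk_surjective x
  have h2 : g ^ 2 ∈ Subgroup.center SL34 := by
    rw [← QuotientGroup.eq_one_iff, QuotientGroup.mk_pow, ← hx, pow_orderOf_eq_one]
  have h6 : g ^ 3 * g ^ 3 = 1 := by
    obtain ⟨r, hr3, hr⟩ := Matrix.SpecialLinearGroup.mem_center_iff.1 h2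
    rw [← pow_add, show 3 + 3 = 2 * 3 from rfl, pow_mul]
    refine Subtype.ext ?_
    rw [Fintype.card_fin] at hr3
    rw [Matrix.SpecialLinearGroup.coe_pow, Matrix.SpecialLinearGroup.coe_one, ← hr, ← map_pow, hr3,
      map_one]
  have hmk : (QuotientGroup.mk (g ^ 3) : Matrix.ProjectiveSpecialLinearGroup (Fin 3) F4) =
      QuotientGroup.mk g := by
    rw [QuotientGroup.mk_pow, pow_succ, ← hx, pow_orderOf_eq_one, one_mul]
  have hne : g ^ 3 ≠ 1 := fun h => by
    rw [h, QuotientGroup.mk_one] at hmk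
    rw [← hmk, orderOf_one] at hx
    omega
  obtain ⟨P, hP⟩ := exists_conj_tv _ h6 hne
  refine isConj_iff.2 ⟨QuotientGroup.mk P, ?_⟩
  rw [← hmk, mul_inv_eq_iff_eq_mul, ← QuotientGroup.mk_mul, ← QuotientGroup.mk_mul, hP]

end Cfsg.Agent.Lib.PSL34Orders
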